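import Mathlib.Topology.KrullDimension
import Mathlib.Topology.NoetherianSpace
import Mathlib.Topology.Sets.Closeds
import Groth.Prelude.Def_Flat

/-!
Elementary facts on `topologicalKrullDim` and `FlatMor.localDim`.
-/

open Set Order TopologicalSpace Topology

namespace Groth.Agent.TopDimLib

variable {X : Type*} [TopologicalSpace X]

theorem topDim_le_iff {c : WithBot ℕ∞} :
    topologicalKrullDim X ≤ c ↔ ∀ l : LTSeries (IrreducibleCloseds X), (l.length : WithBot ℕ∞) ≤ c := by
  simp only [topologicalKrullDim, Order.krullDim, iSup_le_iff]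

theorem isPreirreducible_iff_of_isInducing_aux {Y : Set X} {A : Set Y} :
    IsPreirreducible A ↔ IsPreirreducible ((Subtype.val : Y → X) '' A) := by
  refine ⟨fun hA => hA.image _ continuous_subtype_val.continuousOn, fun hA u v hu hv ⟨a, haA, hau⟩ ⟨b, hbA, hbv⟩ => ?_⟩
  obtain ⟨u', hu', rfl⟩ := isOpen_induced_iff.1 hu
  obtain ⟨v', hv', rfl⟩ := isOpen_induced_iff.1 hv
  obtain ⟨z, ⟨c, hcA, rfl⟩, hz⟩ :=
    hA u' v' hu' hv' ⟨a, ⟨a, haA, rfl⟩, hau⟩ ⟨b, ⟨b, hbA, rfl⟩, hbv⟩
  exact ⟨c, hcA, hz⟩

theorem topDim_le_of_subset {s t : Set X} (h : s ⊆ t) :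
    topologicalKrullDim s ≤ topologicalKrullDim t :=
  (IsEmbedding.inclusion h).isInducing.topologicalKrullDim_le

theorem topDim_nonneg_of_nonempty [Nonempty X] : 0 ≤ topologicalKrullDim X := by
  obtain ⟨x⟩ := ‹Nonempty X›
  have : Nonempty (IrreducibleCloseds X) :=
    ⟨⟨closure {x}, isIrreducible_singleton.closure, isClosed_closure⟩⟩
  exact Order.krullDim_nonneg

/-- The trace of an irreducible closed subset on a subset containing it. -/
def restrictIC (Z : IrreducibleCloseds X) (Y : Set X) (h : (Z : Set X) ⊆ Y) : IrreducibleCloseds Y where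
  carrier := Subtype.val ⁻¹' (Z : Set X)
  isClosed' := Z.isClosed.preimage continuous_subtype_val
  isIrreducible' := by
    refine ⟨?_, ?_⟩
    · obtain ⟨z, hz⟩ := Z.isIrreducible.1
      exact ⟨⟨z, h hz⟩, hz⟩
    · rw [isPreirreducible_iff_of_isInducing_aux]
      rw [Set.image_preimage_eq_of_subset (by simpa using h)]
      exact Z.isIrreducible.2

/-- A chain in `X` all of whose members lie in `Y` is a chain in `Y`. -/
theorem length_le_of_subset (l : LTSeries (IrreducibleCloseds X)) {Y : Set X}
    (h : (l.last : Set X) ⊆ Y) : (l.length : WithBot ℕ∞) ≤ topologicalKrullDim Y := by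
  have hsub : ∀ i, (l i : Set X) ⊆ Y := fun i =>
    fun x hx => h ((l.monotone (Fin.le_last i)) hx)
  let m : LTSeries (IrreducibleCloseds Y) :=
    LTSeries.mk l.length (fun i => restrictIC (l i) Y (hsub i)) (fun i j hij => by
      have hlt : l i < l j := l.strictMono hij
      refine lt_of_le_of_ne (fun y hy => hlt.le hy) (fun he => hlt.ne ?_)
      ext x
      constructor
      · exact fun hx => hlt.le hx
      · intro hx
        simp only at he
        have : (⟨x, hsub j hx⟩ : Y) ∈ restrictIC (l j) Y (hsub j) := hx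
        rw [← he] at this
        exact this)
  exact m.length_le_krullDim

theorem closure_inter_open {Z : Set X} (hZ : IsPreirreducible Z) (hZc : IsClosed Z) {U : Set X}
    (hU : IsOpen U) (h : (Z ∩ U).Nonempty) : closure (Z ∩ U) = Z :=
  le_antisymm (closure_minimal inter_subset_left hZc)
    (subset_closure_inter_of_isPreirreducible_of_isOpen hZ hU h)

/-- A chain in `X` whose bottom member meets the open `U` is a chain in `U`. -/
theorem length_le_of_open (l : LTSeries (IrreducibleCloseds X)) {U : Set X} (hU : IsOpen U)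
    {x : X} (hx : x ∈ (l.head : Set X)) (hxU : x ∈ U) :
    (l.length : WithBot ℕ∞) ≤ topologicalKrullDim U := by
  have hne : ∀ i, x ∈ (l i : Set X) := fun i => (l.monotone (Fin.zero_le i)) hx
  let g : Fin (l.length + 1) → IrreducibleCloseds U := fun i =>
    ⟨Subtype.val ⁻¹' (l i : Set X),
      ⟨⟨⟨x, hxU⟩, hne i⟩, (l i).isIrreducible.2.preimage hU.isOpenEmbedding_subtypeVal⟩,
      (l i).isClosed.preimage continuous_subtype_val⟩
  let m : LTSeries (IrreducibleCloseds U) :=
    LTSeries.mk l.length g (fun i j hij => by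
      have hlt : l i < l j := l.strictMono hij
      refine lt_of_le_of_ne (fun y hy => hlt.le hy) (fun he => hlt.ne ?_)
      have e : (l i : Set X) ∩ U = (l j : Set X) ∩ U := by
        ext y
        constructor
        · rintro ⟨hy, hyU⟩; exact ⟨hlt.le hy, hyU⟩
        · rintro ⟨hy, hyU⟩
          have : (⟨y, hyU⟩ : U) ∈ g j := hy
          rw [← he] at this
          exact ⟨this, hyU⟩
      apply SetLike.coe_injective
      rw [← closure_inter_open (l i).isIrreducible.2 (l i).isClosed hU ⟨x, hne i, hxU⟩,
        ← closure_inter_open (l j).isIrreducible.2 (l j).isClosed hU ⟨x, hne j, hxU⟩, e])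
  exact m.length_le_krullDim

/-- A closed irreducible set covered by a locally finite family of closed sets lies in one of them. -/
theorem exists_subset_of_locallyFinite {ι : Type*} {Y : ι → Set X} (hY : ∀ i, IsClosed (Y i))
    (hlf : LocallyFinite Y) {S : Set X} (hS : IsIrreducible S) (hcov : S ⊆ ⋃ i, Y i) :
    ∃ i, S ⊆ Y i := by
  classical
  obtain ⟨x, hxS⟩ := hS.1
  obtain ⟨t, ht, htfin⟩ := hlf x
  obtain ⟨V, hVt, hV, hxV⟩ := mem_nhds_iff.1 ht
  have key := isIrreducible_iff_sUnion_isClosed.1 hS
    (insert Vᶜ (htfin.toFinset.image Y)) (by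
      intro z hz
      rcases Finset.mem_insert.1 hz with rfl | hz
      · exact hV.isClosed_compl
      · obtain ⟨i, -, rfl⟩ := Finset.mem_image.1 hz
        exact hY i) (by
      intro z hz
      by_cases hzV : z ∈ V
      · obtain ⟨i, hi⟩ := mem_iUnion.1 (hcov hz)
        refine ⟨Y i, ?_, hi⟩
        simp only [Finset.coe_insert, Finset.coe_image, mem_insert_iff, mem_image]
        exact Or.inr ⟨i, by simpa using ⟨z, hi, hVt hzV⟩, rfl⟩
      · exact ⟨Vᶜ, by simp, hzV⟩)
  obtain ⟨z, hz, hSz⟩ := key
  rcases Finset.mem_insert.1 hz with rfl | hz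
  · exact absurd hxV (hSz hxS)
  · obtain ⟨i, -, rfl⟩ := Finset.mem_image.1 hz
    exact ⟨i, hSz⟩

theorem topDim_eq_iSup_of_locallyFinite {ι : Type*} (Y : ι → Set X) (hY : ∀ i, IsClosed (Y i))
    (hlf : LocallyFinite Y) (hcov : ⋃ i, Y i = univ) :
    topologicalKrullDim X = ⨆ i, topologicalKrullDim (Y i) := by
  refine le_antisymm (topDim_le_iff.2 fun l => ?_)
    (iSup_le fun i => topologicalKrullDim_subspace_le X (Y i))
  obtain ⟨i, hi⟩ := exists_subset_of_locallyFinite hY hlf l.last.isIrreducible (by simp [hcov])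
  exact le_iSup_of_le i (length_le_of_subset l hi)

theorem localDim_le {x : X} {U : Set X} (hU : IsOpen U) (hx : x ∈ U) :
    FlatMor.localDim X x ≤ topologicalKrullDim U :=
  iInf_le_of_le ⟨⟨U, hU⟩, hx⟩ le_rfl

theorem exists_localDim_eq (x : X) :
    ∃ U : Set X, IsOpen U ∧ x ∈ U ∧ topologicalKrullDim U = FlatMor.localDim X x := by
  have : Nonempty {U : Opens X // x ∈ U} := ⟨⟨⊤, trivial⟩⟩
  obtain ⟨U, hU⟩ := ciInf_mem (fun U : {U : Opens X // x ∈ U} => topologicalKrullDim (U.1 : Set X))
  exact ⟨(U.1 : Set X), U.1.2, U.2, hU⟩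

theorem localDim_le_topDim (x : X) : FlatMor.localDim X x ≤ topologicalKrullDim X :=
  (localDim_le isOpen_univ (mem_univ x)).trans (topologicalKrullDim_subspace_le X univ)

theorem length_le_localDim (l : LTSeries (IrreducibleCloseds X)) {x : X} (hx : x ∈ (l.head : Set X)) :
    (l.length : WithBot ℕ∞) ≤ FlatMor.localDim X x :=
  le_iInf fun U => length_le_of_open l U.1.2 hx U.2

/-- In a `T0` space of dimension zero every point is closed. -/
theorem t1Space_of_topDim_le_zero [T0Space X] [CompactSpace X] (h : topologicalKrullDim X ≤ 0) :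
    T1Space X := by
  refine ⟨fun x => ?_⟩
  obtain ⟨y, hy, hyc⟩ :=
    (isClosed_closure : IsClosed (closure ({x} : Set X))).exists_closed_singleton ⟨x, subset_closure rfl⟩
  let A : IrreducibleCloseds X := ⟨{y}, isIrreducible_singleton, hyc⟩
  let B : IrreducibleCloseds X := ⟨closure {x}, isIrreducible_singleton.closure, isClosed_closure⟩
  have hle : A ≤ B := fun z hz => by
    have : z = y := hz
    subst this
    exact hy
  have hge : B ≤ A := krullDim_nonpos_iff_forall_isMax.1 h A hle
  have hxy : x = y := hge (subset_closure rfl : x ∈ closure ({x} : Set X))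
  rw [hxy]
  exact hyc

theorem finite_and_discrete_of_topDim_le_zero [T0Space X] [NoetherianSpace X]
    (h : topologicalKrullDim X ≤ 0) : Finite X ∧ DiscreteTopology X := by
  have := t1Space_of_topDim_le_zero h
  have key : ∀ x : X, ({x} : Set X) ∈ irreducibleComponents X := by
    intro x
    obtain ⟨Z, hZ, hxZ⟩ : ∃ Z ∈ irreducibleComponents X, x ∈ Z :=
      ⟨irreducibleComponent x, irreducibleComponent_mem_irreducibleComponents x, mem_irreducibleComponent⟩
    let A : IrreducibleCloseds X := ⟨{x}, isIrreducible_singleton, isClosed_singleton⟩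
    let B : IrreducibleCloseds X := ⟨Z, hZ.1, isClosed_of_mem_irreducibleComponents Z hZ⟩
    have hle : A ≤ B := fun z hz => by
      have : z = x := hz
      subst this
      exact hxZ
    have hge : B ≤ A := krullDim_nonpos_iff_forall_isMax.1 h A hle
    have e : Z = {x} := le_antisymm hge hle
    exact e ▸ hZ
  have hfin : Finite X := by
    have := (NoetherianSpace.finite_irreducibleComponents (α := X)).to_subtype
    exact Finite.of_injective (fun x => (⟨{x}, key x⟩ : irreducibleComponents X))
      (fun a b hab => singleton_injective (Subtype.ext_iff.1 hab))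
  exact ⟨hfin, inferInstance⟩

end Groth.Agent.TopDimLib
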